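import Groth.Agent.Lib.CoRep9.Inj
import Groth.Agent.Lib.DerLimC.Compact
import Groth.Agent.Lib.Brown.Compact
import Mathlib.Algebra.Category.Grp.Limits

/-!
# The cohomological functor of natural transformations into a system
-/

set_option autoImplicit false
set_option linter.style.haveILetI false
set_option backward.isDefEq.respectTransparency false

universe w v u

open CategoryTheory CategoryTheory.Limits CategoryTheory.Pretriangulated Opposite
open CategoryTheory.Pretriangulated.Opposite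

namespace Groth.Agent.CoRep9

namespace Sys

variable {k : Type w} [Field k] {D : Type u} [Category.{v} D] [Preadditive D] (σ : Sys k D)

/-- Natural transformations into the system. -/
def Nat' (X : D) : AddSubgroup (∀ a, (σ.S a ⟶ X) →+ σ.h a) where
  carrier := {η | ∀ (a b : σ.J) (g : σ.S a ⟶ σ.S b) (f : σ.S b ⟶ X), η a (g ≫ f) = σ.m g (η b f)}
  add_mem' {η θ} hη hθ a b g f := by
    simp only [Pi.add_apply, AddMonoidHom.add_apply, hη a b g f, hθ a b g f, map_add]
  zero_mem' a b g f := by simp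
  neg_mem' {η} hη a b g f := by
    simp only [Pi.neg_apply, AddMonoidHom.neg_apply, hη a b g f, map_neg]

/-- Precomposition. -/
def pull {X Y : D} (f : X ⟶ Y) : σ.Nat' Y →+ σ.Nat' X where
  toFun η := ⟨fun a => (η.1 a).comp (Preadditive.rightComp (σ.S a) f), fun a b g t => by
    show η.1 a ((g ≫ t) ≫ f) = σ.m g (η.1 b (t ≫ f))
    rw [Category.assoc, η.2 a b g]⟩
  map_zero' := Subtype.ext (funext fun _ => AddMonoidHom.ext fun _ => rfl)
  map_add' _ _ := Subtype.ext (funext fun _ => AddMonoidHom.ext fun _ => rfl)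

@[simp] theorem pull_apply {X Y : D} (f : X ⟶ Y) (η : σ.Nat' Y) (a : σ.J) (t : σ.S a ⟶ X) :
    (σ.pull f η).1 a t = η.1 a (t ≫ f) := rfl

theorem Nat'.ext' {X : D} {η θ : σ.Nat' X} (h : ∀ a t, η.1 a t = θ.1 a t) : η = θ :=
  Subtype.ext (funext fun a => AddMonoidHom.ext (h a))

/-- The functor of natural transformations into the system. -/
noncomputable def G : Dᵒᵖ ⥤ AddCommGrpCat.{v} where
  obj X := AddCommGrpCat.of (σ.Nat' X.unop)
  map f := AddCommGrpCat.ofHom (σ.pull f.unop)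
  map_id X := AddCommGrpCat.hom_ext (AddMonoidHom.ext fun η => Nat'.ext' σ fun a t =>
    congrArg (η.1 a) (Category.comp_id t))
  map_comp f g := AddCommGrpCat.hom_ext (AddMonoidHom.ext fun η => Nat'.ext' σ fun a t =>
    congrArg (η.1 a) (Category.assoc t g.unop f.unop).symm)

instance : σ.G.Additive where
  map_add {X Y f g} := AddCommGrpCat.hom_ext (AddMonoidHom.ext fun η => Nat'.ext' σ fun a t => by
    show η.1 a (t ≫ (f.unop + g.unop)) = η.1 a (t ≫ f.unop) + η.1 a (t ≫ g.unop)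
    rw [Preadditive.comp_add, map_add])

variable [HasCoproducts.{v} D] (hc : ∀ a, CohDer.IsCompactObject (σ.S a))

include hc in
theorem exists_glue {κ : Type v} (Y : κ → D) (η : ∀ i, σ.Nat' (Y i)) :
    ∃ θ : σ.Nat' (∐ Y), ∀ i, σ.pull (Sigma.ι Y i) θ = η i := by
  classical
  let e := fun a => AddEquiv.ofBijective (CohDer.homSumToHomCoprod (σ.S a) Y) (hc a κ Y)
  let φ : ∀ a, (σ.S a ⟶ ∐ Y) →+ σ.h a := fun a =>
    (DirectSum.toAddMonoid fun i => (η i).1 a).comp (e a).symm.toAddMonoidHom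
  have hφ : ∀ a i (u : σ.S a ⟶ Y i), φ a (u ≫ Sigma.ι Y i) = (η i).1 a u := by
    intro a i u
    have : (e a).symm (u ≫ Sigma.ι Y i) = DirectSum.of (fun i => σ.S a ⟶ Y i) i u :=
      (AddEquiv.symm_apply_eq _).2
        (DirectSum.toAddMonoid_of (fun j => Preadditive.rightComp (σ.S a) (Sigma.ι Y j)) i u).symm
    show DirectSum.toAddMonoid _ ((e a).symm _) = _
    rw [this, DirectSum.toAddMonoid_of]
  refine ⟨⟨φ, fun a b g f => ?_⟩, fun i => Nat'.ext' σ fun a u => hφ a i u⟩
  obtain ⟨s, u, rfl⟩ := Groth.Agent.DerLimC.exists_sum (hc b) f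
  simp only [Preadditive.comp_sum, map_sum]
  refine Finset.sum_congr rfl fun i _ => ?_
  rw [← Category.assoc, hφ, hφ, (η i).2 a b g]

include hc in
theorem glue_ext {κ : Type v} (Y : κ → D) (θ θ' : σ.Nat' (∐ Y))
    (h : ∀ i, σ.pull (Sigma.ι Y i) θ = σ.pull (Sigma.ι Y i) θ') : θ = θ' :=
  Nat'.ext' σ fun a f => by
    obtain ⟨s, u, rfl⟩ := Groth.Agent.DerLimC.exists_sum (hc a) f
    simp only [map_sum]
    exact Finset.sum_congr rfl fun i _ => congrArg (fun t : σ.Nat' (Y i) => t.1 a (u i)) (h i)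

include hc in
theorem preservesProducts (κ : Type v) : PreservesLimitsOfShape (Discrete κ) σ.G := by
  suffices ∀ f : κ → Dᵒᵖ, PreservesLimit (Discrete.functor f) σ.G from
    ⟨fun {K} => by haveI := this fun i => K.obj ⟨i⟩; exact preservesLimit_of_iso_diagram σ.G Discrete.natIsoFunctor.symm⟩
  intro f
  let Y := fun i => (f i).unop
  have hlim : IsLimit (Fan.mk (op (∐ Y)) fun i => (Sigma.ι Y i).op : Fan fun i => op (Y i)) :=
    Cofan.IsColimit.op (coproductIsCoproduct Y)
  refine preservesLimit_of_preserves_limit_cone hlim ((isLimitMapConeFanMkEquiv _ _ _).symm ?_)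
  choose glue hglue using σ.exists_glue hc Y
  exact mkFanLimit _
    (fun s => AddCommGrpCat.ofHom (AddMonoidHom.mk' (fun x => glue fun i => s.proj i x)
      fun x y => σ.glue_ext hc Y _ _ fun i => by
        rw [map_add, hglue, hglue, hglue]
        exact map_add (s.proj i).hom x y))
    (fun s i => AddCommGrpCat.hom_ext (AddMonoidHom.ext fun x => hglue (fun i => s.proj i x) i))
    (fun s m hm => AddCommGrpCat.hom_ext (AddMonoidHom.ext fun x => σ.glue_ext hc Y _ _ fun i =>
      ((congrArg (fun t => t x) (hm i)) : _).trans (hglue (fun i => s.proj i x) i).symm))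

omit [HasCoproducts.{v} D] in
theorem isHomological [HasZeroObject D] [HasShift D ℤ] [∀ n : ℤ, (shiftFunctor D n).Additive]
    [Pretriangulated D] : σ.G.IsHomological := by
  refine { exact := fun T hT => ?_ }
  have hU := unop_distinguished T hT
  rw [ShortComplex.ab_exact_iff]
  intro (η : σ.Nat' T.obj₂.unop) hη
  have hη' : ∀ a (t : σ.S a ⟶ T.obj₃.unop), η.1 a (t ≫ T.mor₂.unop) = 0 := fun a t =>
    congrArg (fun x : σ.Nat' T.obj₃.unop => x.1 a t) hη
  let Γ : ∀ a, AddSubgroup ((σ.S a ⟶ T.obj₁.unop) × σ.h a) := fun a =>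
    ((Preadditive.rightComp (σ.S a) T.mor₁.unop).prod (η.1 a)).range
  have hΓ : σ.Partial T.obj₁.unop Γ := ⟨fun {a b} g p hp => by
      obtain ⟨t, rfl⟩ := hp
      exact ⟨g ≫ t, Prod.ext (Category.assoc _ _ _) (η.2 a b g t)⟩, fun a y hy => by
      obtain ⟨t, ht⟩ := hy
      obtain ⟨s, rfl⟩ : ∃ s : σ.S a ⟶ T.obj₃.unop, t = s ≫ T.mor₂.unop :=
        Triangle.coyoneda_exact₂ _ hU t (congrArg Prod.fst ht)
      exact (congrArg Prod.snd ht).symm.trans (hη' a s)⟩
  obtain ⟨θ, hθ, hθ'⟩ := exists_extension hΓ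
  exact ⟨(⟨θ, fun a b g f => hθ g f⟩ : σ.Nat' T.obj₁.unop), Nat'.ext' σ fun a t => hθ' a _ _ ⟨t, rfl⟩⟩

end Sys

end Groth.Agent.CoRep9
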