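import Groth.Prelude.Def_CohDer
import Mathlib.RingTheory.Artinian.Module
import Mathlib.LinearAlgebra.FiniteDimensional.Basic
import Mathlib.CategoryTheory.Linear.Basic
import Mathlib.Algebra.Category.ModuleCat.Basic
import Mathlib.CategoryTheory.Preadditive.Biproducts
import Mathlib.Order.Zorn

/-!
# Finite dimensional cohomological systems are injective
-/

set_option autoImplicit false
set_option linter.style.haveILetI false

universe w v u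

open CategoryTheory CategoryTheory.Limits

namespace Groth.Agent.CoRep9

variable (k : Type w) [Field k] (D : Type u) [Category.{v} D] [Preadditive D]

/-- A cohomological system of finite dimensional spaces on a small family of compact objects. -/
structure Sys where
  J : Type v
  S : J → D
  h : J → ModuleCat.{v} k
  m : ∀ {a b : J}, (S a ⟶ S b) → (h b →ₗ[k] h a)
  m_id : ∀ (a : J) (z : h a), m (𝟙 (S a)) z = z
  m_comp : ∀ {a b c : J} (f : S a ⟶ S b) (g : S b ⟶ S c) (z : h c), m (f ≫ g) z = m f (m g z)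
  m_add : ∀ {a b : J} (f g : S a ⟶ S b) (z : h b), m (f + g) z = m f z + m g z
  exact : ∀ {a b : J} (g : S a ⟶ S b) (y : h a),
    (∀ (c : J) (d : S c ⟶ S a), d ≫ g = 0 → m d y = 0) → ∃ z, m g z = y
  biprod : ∀ a b : J, ∃ (c : J) (ia : S a ⟶ S c) (ib : S b ⟶ S c) (pa : S c ⟶ S a) (pb : S c ⟶ S b),
    ia ≫ pa = 𝟙 _ ∧ ib ≫ pa = 0 ∧ ia ≫ pb = 0 ∧ ib ≫ pb = 𝟙 _
  fin : ∀ a, Module.Finite k (h a)

namespace Sys

variable {k D} (σ : Sys k D) (X : D)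

theorem m_zero {a b : σ.J} (z : σ.h b) : σ.m (0 : σ.S a ⟶ σ.S b) z = 0 := by
  have := σ.m_add (0 : σ.S a ⟶ σ.S b) 0 z
  rwa [add_zero, left_eq_add] at this

/-- Graphs of partial natural transformations. -/
structure Partial (Γ : ∀ a, AddSubgroup ((σ.S a ⟶ X) × σ.h a)) : Prop where
  natural : ∀ {a b : σ.J} (g : σ.S a ⟶ σ.S b) (p : (σ.S b ⟶ X) × σ.h b),
    p ∈ Γ b → (g ≫ p.1, σ.m g p.2) ∈ Γ a
  functional : ∀ a (y : σ.h a), ((0 : σ.S a ⟶ X), y) ∈ Γ a → y = 0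

variable {σ X}

theorem Partial.eq {Γ} (hΓ : σ.Partial X Γ) {a} {f : σ.S a ⟶ X} {y y'} (h : (f, y) ∈ Γ a)
    (h' : (f, y') ∈ Γ a) : y = y' := by
  have := (Γ a).sub_mem h h'
  rw [Prod.mk_sub_mk, sub_self] at this
  exact sub_eq_zero.1 (hΓ.functional a _ this)

theorem Partial.exists_value {Γ} (hΓ : σ.Partial X Γ) {a : σ.J} (f : σ.S a ⟶ X) :
    ∃ z : σ.h a, ∀ (b : σ.J) (g : σ.S b ⟶ σ.S a) (y : σ.h b), (g ≫ f, y) ∈ Γ b → σ.m g z = y := by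
  classical
  have hex : ∀ (b : σ.J) (g : σ.S b ⟶ σ.S a) (y : σ.h b), (g ≫ f, y) ∈ Γ b → ∃ z, σ.m g z = y := by
    intro b g y hy
    refine σ.exact g y fun c d hd => hΓ.functional c _ ?_
    have := hΓ.natural d _ hy
    rwa [← Category.assoc, hd, zero_comp] at this
  haveI := σ.fin a
  let 𝒦 : Set (Submodule k (σ.h a)) :=
    {K | ∃ (b : σ.J) (g : σ.S b ⟶ σ.S a) (y : σ.h b), (g ≫ f, y) ∈ Γ b ∧ K = LinearMap.ker (σ.m g)}
  have hne : 𝒦.Nonempty := ⟨_, a, 0, 0, by rw [zero_comp]; exact zero_mem _, rfl⟩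
  obtain ⟨_, ⟨b₀, g₀, y₀, h₀, rfl⟩, hmin⟩ := IsArtinian.set_has_minimal 𝒦 hne
  obtain ⟨z₀, hz₀⟩ := hex b₀ g₀ y₀ h₀
  refine ⟨z₀, fun b g y hy => ?_⟩
  obtain ⟨c, ia, ib, pa, pb, haa, hba, hab, hbb⟩ := σ.biprod b₀ b
  let g' := pa ≫ g₀ + pb ≫ g
  have h' : (g' ≫ f, σ.m pa y₀ + σ.m pb y) ∈ Γ c := by
    have := (Γ c).add_mem (hΓ.natural pa _ h₀) (hΓ.natural pb _ hy)
    simpa only [Prod.mk_add_mk, g', Preadditive.add_comp, Category.assoc] using this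
  have hia : ia ≫ g' = g₀ := by simp [g', reassoc_of% haa, reassoc_of% hab]
  have hib : ib ≫ g' = g := by simp [g', reassoc_of% hba, reassoc_of% hbb]
  obtain ⟨z', hz'⟩ := hex c g' _ h'
  have hle : LinearMap.ker (σ.m g') ≤ LinearMap.ker (σ.m g₀) := fun x hx => by
    rw [LinearMap.mem_ker] at hx ⊢
    rw [← hia, σ.m_comp, hx, map_zero]
  have heq : LinearMap.ker (σ.m g') = LinearMap.ker (σ.m g₀) :=
    hle.eq_of_not_lt (hmin _ ⟨c, g', _, h', rfl⟩)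
  have h1 : σ.m g₀ z' = y₀ := by
    rw [← hia, σ.m_comp, hz', map_add, ← σ.m_comp, ← σ.m_comp, haa, hab, σ.m_id, σ.m_zero, add_zero]
  have h2 : σ.m g z' = y := by
    rw [← hib, σ.m_comp, hz', map_add, ← σ.m_comp, ← σ.m_comp, hba, hbb, σ.m_id, σ.m_zero, zero_add]
  have h3 : z₀ - z' ∈ LinearMap.ker (σ.m g') := by
    rw [heq, LinearMap.mem_ker, map_sub, hz₀, h1, sub_self]
  rw [LinearMap.mem_ker] at h3
  have h4 : σ.m g (z₀ - z') = 0 := by rw [← hib, σ.m_comp, h3, map_zero]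
  rw [map_sub, sub_eq_zero] at h4
  exact h4.trans h2

theorem Partial.extend {Γ} (hΓ : σ.Partial X Γ) {a : σ.J} (f : σ.S a ⟶ X) :
    ∃ Γ', σ.Partial X Γ' ∧ Γ ≤ Γ' ∧ ∃ z, (f, z) ∈ Γ' a := by
  obtain ⟨z, hz⟩ := hΓ.exists_value f
  let T : ∀ b, AddSubgroup ((σ.S b ⟶ X) × σ.h b) := fun b => AddMonoidHom.range
    (AddMonoidHom.mk' (fun g : σ.S b ⟶ σ.S a => (g ≫ f, σ.m g z))
      fun g g' => Prod.ext (Preadditive.add_comp _ _ _ g g' f) (σ.m_add g g' z))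
  refine ⟨fun b => Γ b ⊔ T b, ⟨fun {b c} g p hp => ?_, fun b y hy => ?_⟩, fun b => le_sup_left,
    z, AddSubgroup.mem_sup_right ⟨𝟙 _, Prod.ext (Category.id_comp f) (σ.m_id a z)⟩⟩
  · obtain ⟨q, hq, _, ⟨g', rfl⟩, rfl⟩ := AddSubgroup.mem_sup.1 hp
    refine AddSubgroup.mem_sup.2 ⟨_, hΓ.natural g q hq, _, ⟨g ≫ g', rfl⟩, ?_⟩
    exact Prod.ext ((congrArg (fun t => g ≫ q.1 + t) (Category.assoc g g' f)).trans (Preadditive.comp_add _ _ _ g _ _).symm)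
      ((congrArg (fun t => σ.m g q.2 + t) (σ.m_comp g g' z)).trans (map_add _ _ _).symm)
  · obtain ⟨⟨l, t⟩, hq, _, ⟨g', rfl⟩, he⟩ := AddSubgroup.mem_sup.1 hy
    have e1 : l + g' ≫ f = 0 := congrArg Prod.fst he
    have e2 : t + σ.m g' z = y := congrArg Prod.snd he
    have hq' : (g' ≫ f, -t) ∈ Γ b := by
      have := (Γ b).neg_mem hq
      rwa [Prod.neg_mk, show -l = g' ≫ f from neg_eq_iff_add_eq_zero.2 e1] at this
    rw [← e2, hz b g' _ hq', add_neg_cancel]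

/-- Partial natural transformations extend. -/
theorem exists_extension {Γ} (hΓ : σ.Partial X Γ) :
    ∃ η : ∀ a, (σ.S a ⟶ X) →+ σ.h a,
      (∀ {a b : σ.J} (g : σ.S a ⟶ σ.S b) (f : σ.S b ⟶ X), η a (g ≫ f) = σ.m g (η b f)) ∧
      ∀ a f y, (f, y) ∈ Γ a → η a f = y := by
  classical
  obtain ⟨M, hΓM, hM⟩ := zorn_le_nonempty₀ {Δ | σ.Partial X Δ ∧ Γ ≤ Δ}
    (fun C hC hchain Δ₀ hΔ₀ => by
      haveI : Nonempty C := ⟨⟨Δ₀, hΔ₀⟩⟩
      have hmem : ∀ a (p : (σ.S a ⟶ X) × σ.h a), p ∈ (⨆ Δ : C, Δ.1 a) ↔ ∃ Δ ∈ C, p ∈ Δ a := fun a p => by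
        refine (AddSubgroup.mem_iSup_of_directed (K := fun Δ : C => Δ.1 a) fun i j => ?_).trans
          ⟨fun ⟨Δ, h⟩ => ⟨Δ.1, Δ.2, h⟩, fun ⟨Δ, hΔ, h⟩ => ⟨⟨Δ, hΔ⟩, h⟩⟩
        rcases hchain.total i.2 j.2 with h | h
        · exact ⟨j, h a, le_rfl⟩
        · exact ⟨i, le_rfl, h a⟩
      refine ⟨fun a => ⨆ Δ : C, Δ.1 a, ⟨⟨fun {a b} g p hp => ?_, fun a y hy => ?_⟩, ?_⟩, ?_⟩
      · obtain ⟨Δ, hΔ, hp⟩ := (hmem b p).1 hp
        exact (hmem a _).2 ⟨Δ, hΔ, (hC hΔ).1.natural g p hp⟩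
      · obtain ⟨Δ, hΔ, hp⟩ := (hmem a _).1 hy
        exact (hC hΔ).1.functional a y hp
      · exact fun a p hp => (hmem a p).2 ⟨Δ₀, hΔ₀, (hC hΔ₀).2 a hp⟩
      · exact fun Δ hΔ a p hp => (hmem a p).2 ⟨Δ, hΔ, hp⟩)
    Γ ⟨hΓ, le_rfl⟩
  have htot : ∀ a (f : σ.S a ⟶ X), ∃ y, (f, y) ∈ M a := fun a f => by
    obtain ⟨M', hM', hle, z, hz⟩ := hM.1.1.extend f
    exact ⟨z, hM.2 ⟨hM', hM.1.2.trans hle⟩ hle a hz⟩
  choose η hη using htot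
  refine ⟨fun a => AddMonoidHom.mk' (η a) fun f g => hM.1.1.eq (hη a _) ((M a).add_mem (hη a f) (hη a g)),
    fun {a b} g f => hM.1.1.eq (hη a _) (hM.1.1.natural g _ (hη b f)),
    fun a f y hy => hM.1.1.eq (hη a f) (hΓM a hy)⟩

end Sys

end Groth.Agent.CoRep9
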