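import Groth.Prelude.Def_CohDer
import Mathlib.CategoryTheory.Triangulated.Generators
import Mathlib.CategoryTheory.Triangulated.Subcategory

/-!
# A small set of objects closed under shifts, cones and retracts
-/

set_option autoImplicit false

universe v u

open CategoryTheory CategoryTheory.Limits CategoryTheory.Pretriangulated ZeroObject

namespace Groth.Agent.CoRep9

variable {D : Type u} [Category.{v} D] [Preadditive D] [HasZeroObject D] [HasShift D ℤ]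
  [∀ n : ℤ, (shiftFunctor D n).Additive] [Pretriangulated D] {ι : Type v} (E : ι → D)

open Classical in
/-- An object splitting an endomorphism, when there is one. -/
noncomputable def splitting {X : D} (e : X ⟶ X) : D :=
  if h : ∃ (R : D) (i : R ⟶ X) (r : X ⟶ R), i ≫ r = 𝟙 R ∧ r ≫ i = e then h.choose else X

/-- The stages of the closure. -/
noncomputable def stages : ℕ → Σ I : Type v, (I → D)
  | 0 => ⟨PUnit.{v + 1} ⊕ ι, Sum.elim (fun _ => (0 : D)) E⟩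
  | n + 1 =>
    let I := (stages n).1
    let O := (stages n).2
    ⟨I ⊕ (I × ULift.{v} ℤ) ⊕ (Σ a b : I, O a ⟶ O b) ⊕ (Σ a : I, O a ⟶ O a),
      Sum.elim O (Sum.elim (fun p => (O p.1)⟦p.2.down⟧)
        (Sum.elim (fun p => (distinguished_cocone_triangle p.2.2).choose) (fun p => splitting p.2)))⟩

/-- The index of the closure. -/
abbrev Idx : Type v := Σ n : ULift.{v} ℕ, (stages E n.down).1

/-- The objects of the closure. -/
noncomputable abbrev Obj (a : Idx E) : D := (stages E a.1.down).2 a.2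

/-- Being isomorphic to an object of the closure. -/
def P : ObjectProperty D := fun X => ∃ a : Idx E, Nonempty (X ≅ Obj E a)

theorem mem_mono {X : D} {n m : ℕ} (h : n ≤ m) (a : (stages E n).1) (e : X ≅ (stages E n).2 a) :
    ∃ b : (stages E m).1, Nonempty (X ≅ (stages E m).2 b) := by
  induction h with
  | refl => exact ⟨a, ⟨e⟩⟩
  | step _ ih =>
    obtain ⟨b, hb⟩ := ih
    exact ⟨Sum.inl b, hb⟩

theorem P_le (i : ι) : P E (E i) := ⟨⟨⟨0⟩, Sum.inr i⟩, ⟨Iso.refl _⟩⟩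

instance : (P E).IsClosedUnderIsomorphisms where
  of_iso e h := by
    obtain ⟨a, ⟨e'⟩⟩ := h
    exact ⟨a, ⟨e.symm ≪≫ e'⟩⟩

instance : (P E).ContainsZero where
  exists_zero := ⟨0, isZero_zero D,
    ⟨⟨⟨0⟩, Sum.inl PUnit.unit⟩, ⟨Iso.refl _⟩⟩⟩

instance : (P E).IsStableUnderShift ℤ where
  isStableUnderShiftBy n := ⟨fun X h => by
    obtain ⟨⟨⟨m⟩, a⟩, ⟨e⟩⟩ := h
    exact ⟨⟨⟨m + 1⟩, Sum.inr (Sum.inl ⟨a, ⟨n⟩⟩)⟩, ⟨(shiftFunctor D n).mapIso e⟩⟩⟩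

theorem cone_mem (T : Triangle D) (hT : T ∈ distTriang D) (h₁ : P E T.obj₁) (h₂ : P E T.obj₂) :
    P E T.obj₃ := by
  obtain ⟨⟨⟨n⟩, a⟩, ⟨e⟩⟩ := h₁
  obtain ⟨⟨⟨m⟩, b⟩, ⟨e'⟩⟩ := h₂
  obtain ⟨a', ⟨ea⟩⟩ := mem_mono E (le_max_left n m) a e
  obtain ⟨b', ⟨eb⟩⟩ := mem_mono E (le_max_right n m) b e'
  let f := ea.inv ≫ T.mor₁ ≫ eb.hom
  obtain ⟨g, h, hT'⟩ := (distinguished_cocone_triangle f).choose_spec
  refine ⟨⟨⟨max n m + 1⟩, Sum.inr (Sum.inr (Sum.inl ⟨a', b', f⟩))⟩, ⟨?_⟩⟩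
  exact Triangle.π₃.mapIso (isoTriangleOfIso₁₂ T _ hT hT' ea eb (by
    change T.mor₁ ≫ eb.hom = ea.hom ≫ f
    simp [f]))

instance : (P E).IsTriangulatedClosed₂ where
  ext₂' T hT h₁ h₃ := ObjectProperty.le_isoClosure _ _
    (cone_mem E _ (inv_rot_of_distTriang _ hT) ((P E).le_shift (-1 : ℤ) _ h₃) h₁)

instance : (P E).IsTriangulated where

instance : (P E).IsStableUnderRetracts where
  of_retract {R Y} r hY := by
    classical
    obtain ⟨⟨⟨n⟩, a⟩, ⟨e⟩⟩ := hY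
    refine ⟨⟨⟨n + 1⟩, Sum.inr (Sum.inr (Sum.inr ⟨a, (e.inv ≫ r.r) ≫ (r.i ≫ e.hom)⟩))⟩, ?_⟩
    have h : ∃ (R : D) (i : R ⟶ (stages E n).2 a) (r' : (stages E n).2 a ⟶ R), i ≫ r' = 𝟙 R ∧
        r' ≫ i = (e.inv ≫ r.r) ≫ (r.i ≫ e.hom) := ⟨R, r.i ≫ e.hom, e.inv ≫ r.r, by simp, rfl⟩
    show Nonempty (R ≅ splitting _)
    rw [splitting, dif_pos h]
    have aux : ∀ (R' : D) (i : R' ⟶ (stages E n).2 a) (r' : (stages E n).2 a ⟶ R'), i ≫ r' = 𝟙 R' →
        r' ≫ i = (e.inv ≫ r.r) ≫ (r.i ≫ e.hom) → Nonempty (R ≅ R') := by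
      intro R' i r' h₁ h₂
      refine ⟨⟨(r.i ≫ e.hom) ≫ r', i ≫ (e.inv ≫ r.r), ?_, ?_⟩⟩
      · calc _ = (r.i ≫ e.hom) ≫ (r' ≫ i) ≫ (e.inv ≫ r.r) := by simp only [Category.assoc]
          _ = _ := by rw [h₂]; simp
      · calc _ = i ≫ ((e.inv ≫ r.r) ≫ (r.i ≫ e.hom)) ≫ r' := by simp only [Category.assoc]
          _ = _ := by rw [← h₂]; simp [h₁, reassoc_of% h₁]
    obtain ⟨i, r', h₁, h₂⟩ := h.choose_spec
    exact aux _ i r' h₁ h₂

/-- The closure contains the envelope. -/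
theorem envelope_le [IsTriangulated D] {Q : ObjectProperty D} (hQ : ∀ X, Q X → ∃ i, X = E i) :
    Q.triangEnvelope ≤ P E :=
  (ObjectProperty.triangEnvelope_le_iff Q).2 fun X hX => by
    obtain ⟨i, rfl⟩ := hQ X hX
    exact P_le E i

end Groth.Agent.CoRep9
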